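import Mathlib
import Groth.Prelude.Def_CAlg
import Groth.Prelude.Def_FDesc
import Groth.Agent.DiagLib.Smooth
import Groth.Agent.DepthLib.SmoothBCScheme
import Groth.Agent.CohenLib.RegularField
import Groth.Agent.UOpenLib.Basic
import Groth.Agent.S9501
import Groth.Agent.S4989
import Groth.Agent.UOpenLib.Normal

/-!
# Smoothness at a point and geometric regularity of the fibre
-/

set_option autoImplicit false

universe u

open CategoryTheory Limits AlgebraicGeometry IsLocalRing

namespace SmoothCritLib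

variable {X Y : Scheme.{u}} (f : X ⟶ Y)

/-- A neighbourhood on which a morphism is smooth is the same as membership in the smooth locus. -/
theorem exists_smooth_nhd_iff [LocallyOfFinitePresentation f] (x : X) :
    (∃ U : X.Opens, x ∈ U ∧ Smooth (U.ι ≫ f)) ↔ x ∈ f.smoothLocus := by
  refine ⟨fun ⟨U, hxU, hU⟩ ↦ ?_, fun h ↦ ⟨f.smoothLocus, h, ?_⟩⟩
  · haveI := hU
    have h := (U.ι ≫ f).smoothLocus_eq_top
    rw [← Scheme.Hom.preimage_smoothLocus_eq] at h
    exact h.ge (show (⟨x, hxU⟩ : (U : Scheme.{u})) ∈ ⊤ from trivial)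
  · rw [← Scheme.Hom.smoothLocus_eq_top_iff, ← Scheme.Hom.preimage_smoothLocus_eq]
    exact Scheme.Opens.ι_preimage_self _

/-- The residue field to stalk map at a point over a field. -/
theorem bijective_toStalk_field (k : Type u) [Field k] (p : PrimeSpectrum k) :
    ∃ e : CommRingCat.of k ⟶ (Spec (CommRingCat.of k)).presheaf.stalk p,
      Function.Bijective e.hom ∧ Spec.map e = (Spec (CommRingCat.of k)).fromSpecStalk p := by
  let X₀ := Spec (CommRingCat.of k)
  refine ⟨(Scheme.ΓSpecIso (CommRingCat.of k)).inv ≫ X₀.presheaf.germ ⊤ p trivial, ?_, ?_⟩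
  · letI : Algebra k (X₀.presheaf.stalk p) := StructureSheaf.stalkAlgebra k p
    haveI : IsLocalization.AtPrime (X₀.presheaf.stalk p) p.asIdeal := StructureSheaf.IsLocalization.to_stalk k p
    have hb : Function.Bijective (algebraMap k (X₀.presheaf.stalk p)) :=
      (IsLocalization.atUnits k p.asIdeal.primeCompl (fun a ha ↦ Ne.isUnit fun h0 ↦ ha (h0 ▸ Ideal.zero_mem _))
        : k ≃ₐ[k] X₀.presheaf.stalk p).bijective
    exact hb
  · refine ext_of_isAffine ?_
    rw [Scheme.fromSpecStalk_appTop, ← cancel_mono (Scheme.ΓSpecIso (X₀.presheaf.stalk p)).hom,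
      Scheme.ΓSpecIso_naturality]
    simp [X₀]

/-- The fibre stalk as a quotient of the stalk, over the residue field. -/
theorem exists_fibre_stalk_map (x : X) :
    ∃ τ : X.presheaf.stalk x ⟶ (f.fiber (f.base x)).presheaf.stalk (f.asFiber x),
      Function.Surjective τ.hom ∧
        RingHom.ker τ.hom = Ideal.map (f.stalkMap x).hom (maximalIdeal (Y.presheaf.stalk (f.base x))) ∧
        Spec.map τ ≫ X.fromSpecStalk x =
          (f.fiber (f.base x)).fromSpecStalk (f.asFiber x) ≫ f.fiberι (f.base x) := by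
  have key : ∀ (s : Y) (z : ↥(f.fiber s)) (x' : X), (f.fiberι s).base z = x' →
      ∃ τ : X.presheaf.stalk x' ⟶ (f.fiber s).presheaf.stalk z, Function.Surjective τ.hom ∧
        RingHom.ker τ.hom = Ideal.map (f.stalkMap x').hom (maximalIdeal (Y.presheaf.stalk (f.base x'))) ∧
        Spec.map τ ≫ X.fromSpecStalk x' = (f.fiber s).fromSpecStalk z ≫ f.fiberι s := by
    rintro s z x' rfl
    obtain ⟨h1, h2⟩ := Groth.Agent.S9501.result f s z
    exact ⟨(f.fiberι s).stalkMap z, h1, h2, Scheme.SpecMap_stalkMap_fromSpecStalk _⟩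
  exact key _ (f.asFiber x) x (f.fiberι_asFiber x)

/-- The fibre is smooth at a point exactly when the quotient of the local ring is geometrically regular. -/
theorem asFiber_mem_smoothLocus_iff [LocallyOfFiniteType f] (x : X)
    [LocallyOfFinitePresentation (f.fiberToSpecResidueField (f.base x))] :
    letI φ := (f.stalkMap x).hom
    letI 𝔪 := maximalIdeal ↑(Y.presheaf.stalk (f.base x))
    letI : Algebra (ResidueField ↑(Y.presheaf.stalk (f.base x))) (↑(X.presheaf.stalk x) ⧸ 𝔪.map φ) :=
      (Ideal.quotientMap (𝔪.map φ) φ Ideal.le_comap_map).toAlgebra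
    f.asFiber x ∈ (f.fiberToSpecResidueField (f.base x)).smoothLocus ↔
      CAlg.IsGeometricallyRegular (ResidueField ↑(Y.presheaf.stalk (f.base x)))
        (↑(X.presheaf.stalk x) ⧸ 𝔪.map φ) := by
  letI : Algebra (ResidueField ↑(Y.presheaf.stalk (f.base x)))
      (↑(X.presheaf.stalk x) ⧸ (maximalIdeal ↑(Y.presheaf.stalk (f.base x))).map (f.stalkMap x).hom) :=
    (Ideal.quotientMap ((maximalIdeal ↑(Y.presheaf.stalk (f.base x))).map (f.stalkMap x).hom)
      (f.stalkMap x).hom Ideal.le_comap_map).toAlgebra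
  let y := f.base x
  let k := ResidueField ↑(Y.presheaf.stalk y)
  let F := f.fiber y
  let z := f.asFiber x
  let fs : F ⟶ Spec (CommRingCat.of k) := f.fiberToSpecResidueField y
  haveI : LocallyOfFiniteType fs := MorphismProperty.pullback_snd _ _ inferInstance
  haveI : IsLocallyNoetherian F := LocallyOfFiniteType.isLocallyNoetherian fs
  obtain ⟨e, he, hespec⟩ := bijective_toStalk_field k (fs.base z)
  obtain ⟨τ, hτs, hτk, hτspec⟩ := exists_fibre_stalk_map f x
  let φF : CommRingCat.of k ⟶ F.presheaf.stalk z := e ≫ fs.stalkMap z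
  have hφF : Spec.map φF = F.fromSpecStalk z ≫ fs := by
    rw [Spec.map_comp, hespec, Scheme.SpecMap_stalkMap_fromSpecStalk]
  have hcomm : f.stalkMap x ≫ τ = Y.residue y ≫ φF := by
    apply Spec.map_injective
    rw [← cancel_mono (Y.fromSpecStalk y), Spec.map_comp, Spec.map_comp, Category.assoc, Category.assoc,
      Scheme.SpecMap_stalkMap_fromSpecStalk, reassoc_of% hτspec]
    refine (congrArg (F.fromSpecStalk z ≫ ·) (pullback.condition (f := f) (g := Y.fromSpecResidueField y))).trans ?_
    refine (Category.assoc _ _ _).symm.trans ((congrArg (· ≫ Y.fromSpecResidueField y) hφF.symm).trans ?_)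
    exact (Category.assoc _ _ _).symm
  letI : Algebra k (F.presheaf.stalk z) := φF.hom.toAlgebra
  let J := (maximalIdeal ↑(Y.presheaf.stalk y)).map (f.stalkMap x).hom
  let ε : (↑(X.presheaf.stalk x) ⧸ J) ≃+* F.presheaf.stalk z :=
    (Ideal.quotEquivOfEq hτk.symm).trans (RingHom.quotientKerEquivOfSurjective hτs)
  let εa : (↑(X.presheaf.stalk x) ⧸ J) ≃ₐ[k] F.presheaf.stalk z :=
    AlgEquiv.ofRingEquiv (f := ε) fun a ↦ by
      obtain ⟨a, rfl⟩ := Ideal.Quotient.mk_surjective a
      exact congrArg (fun q ↦ q.hom a) hcomm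
  haveI : Algebra.EssFiniteType k (F.presheaf.stalk z) := by
    refine RingHom.essFiniteType_algebraMap.mp ?_
    exact RingHom.EssFiniteType.comp (RingHom.FiniteType.of_surjective _ he.2).essFiniteType
      (LocallyOfFiniteType.stalkMap fs z)
  have h1 : z ∈ fs.smoothLocus ↔ Algebra.FormallySmooth k (F.presheaf.stalk z) := by
    rw [Scheme.Hom.mem_smoothLocus, ← RingHom.formallySmooth_algebraMap]
    haveI : IsIso e := (ConcreteCategory.isIso_iff_bijective _).mpr he
    exact (RingHom.FormallySmooth.respectsIso.cancel_left_isIso e (fs.stalkMap z)).symm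
  refine h1.trans ⟨fun h ↦ ?_, fun h ↦ ?_⟩
  · exact DiagLib.isGeometricallyRegular_of_algEquiv εa.symm
      (JacFSLib.isGeometricallyRegular_of_formallySmooth (C := F.presheaf.stalk z))
  · exact DiagLib.formallySmooth_of_isGeometricallyRegular (DiagLib.isGeometricallyRegular_of_algEquiv εa h)

/-- Smooth fibres are geometrically reduced. -/
theorem isGeomReducedAt_of_mem_smoothLocus {k : Type u} [Field k] {F : Scheme.{u}}
    (fs : F ⟶ Spec (CommRingCat.of k)) [LocallyOfFinitePresentation fs] (z : F) (hz : z ∈ fs.smoothLocus) :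
    FBase.IsGeomReducedAt fs z := by
  intro K _ _ z' hz'
  haveI : LocallyOfFinitePresentation (FBase.bcStr fs K) := MorphismProperty.pullback_snd _ _ inferInstance
  haveI : Flat (Spec.map (CommRingCat.ofHom (algebraMap k K))) := by
    rw [HasRingHomProperty.Spec_iff (P := @Flat)]
    exact RingHom.flat_algebraMap_iff.mpr inferInstance
  have h := (DepthLib.mem_smoothLocus_baseChange_scheme fs _ (FBase.bcStr fs K) (FBase.bcπ fs K)
    (IsPullback.of_hasPullback _ _) (Or.inr inferInstance) z').mpr (hz'.symm ▸ hz)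
  refine ((Groth.Agent.S4989.result (FBase.bcStr fs K) z' h).1).mpr ?_
  infer_instance

/-- Smoothness near a point gives universal openness near it. -/
theorem isUnivOpenAt_of_mem_smoothLocus [LocallyOfFinitePresentation f] (x : X) (h : x ∈ f.smoothLocus) :
    EGA43.IsUnivOpenAt f x := by
  haveI : Smooth (f.smoothLocus.ι ≫ f) := by
    rw [← Scheme.Hom.smoothLocus_eq_top_iff, ← Scheme.Hom.preimage_smoothLocus_eq]
    exact Scheme.Opens.ι_preimage_self _
  haveI : UniversallyOpen (f.smoothLocus.ι ≫ f) := inferInstance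
  exact UOpenLib.IsUnivOpenAt.of_comp
    (UOpenLib.isUnivOpenAt_of_universallyOpen' (f.smoothLocus.ι ≫ f) (⟨x, h⟩ : (f.smoothLocus : Scheme.{u})))

end SmoothCritLib
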