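import Groth.Agent.CohenLib.RegularField
import Groth.Agent.CommAlgDim.Regular
import Mathlib.RingTheory.Smooth.Locus
import Mathlib.RingTheory.Smooth.Basic
import Mathlib.RingTheory.Nakayama
import Mathlib.RingTheory.LocalRing.Module
import Mathlib.RingTheory.Ideal.Cotangent
import Mathlib.RingTheory.RingHom.Surjective

/-!
# Smoothness from projective differentials and generic smoothness
-/

set_option autoImplicit false
set_option linter.style.haveILetI false
universe u

open scoped TensorProduct
open KaehlerDifferential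

namespace SmoothCritLib

set_option maxHeartbeats 400000

variable (k : Type u) [Field k]

theorem formallySmooth_of_generic (P A : Type u) [CommRing P] [CommRing A] [IsLocalRing P] [IsLocalRing A]
    [IsNoetherianRing P] [Algebra k P] [Algebra k A] [Algebra P A] [IsScalarTower k P A]
    [Algebra.FormallySmooth k P] [Algebra.EssFiniteType k P]
    (hs : Function.Surjective (algebraMap P A)) [Module.Free A (Ω[A⁄k])]
    (p : Ideal A) [p.IsPrime] [Algebra.FormallySmooth k (Localization.AtPrime p)] :
    Algebra.FormallySmooth k A := by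
  classical
  haveI : IsNoetherianRing A := isNoetherianRing_of_surjective P A _ hs
  let F := A ⊗[P] Ω[P⁄k]
  let π := mapBaseChange k P A
  have hπ : Function.Surjective π := mapBaseChange_surjective k P A hs
  obtain ⟨sec, hsec⟩ := Module.projective_lifting_property π LinearMap.id hπ
  let M : Submodule A F := LinearMap.ker π
  let pr : F →ₗ[A] ↥M := LinearMap.codRestrict M (LinearMap.id - sec ∘ₗ π) fun x => by
    change π (x - sec (π x)) = 0
    rw [map_sub, show π (sec (π x)) = π x from LinearMap.congr_fun hsec (π x), sub_self]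
  have hpr : ∀ m : M, pr m = m := fun m => Subtype.ext (by
    change (m : F) - sec (π (m : F)) = m
    rw [LinearMap.mem_ker.mp m.2, map_zero, sub_zero])
  haveI : Module.Projective A M := Module.Projective.of_split M.subtype pr (LinearMap.ext hpr)
  haveI : Algebra.EssFiniteType k A := Algebra.EssFiniteType.of_surjective (IsScalarTower.toAlgHom k P A) hs
  haveI : Module.Finite A M := inferInstance
  haveI : Module.Free A M := Module.free_of_flat_of_isLocalRing (R := A) (P := ↥M)
  let c := Module.finrank A M
  let bM : Module.Basis (Fin c) A M := Module.finBasis A M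
  have hf : ∀ i, ∃ f ∈ RingHom.ker (algebraMap P A), (1 : A) ⊗ₜ[P] D k P f = (bM i : F) := fun i => by
    have hm : (bM i : F) ∈ LinearMap.range (kerCotangentToTensor k P A) := by
      rw [range_kerCotangentToTensor k P A hs]; exact (bM i).2
    obtain ⟨y, hy⟩ := hm
    obtain ⟨x, rfl⟩ := Ideal.toCotangent_surjective _ y
    exact ⟨x, x.2, by rw [← hy, kerCotangentToTensor_toCotangent]⟩
  choose f hfker hfD using hf
  let J₀ : Ideal P := Ideal.span (Set.range f)
  have hJ₀ : J₀ ≤ RingHom.ker (algebraMap P A) := Ideal.span_le.mpr (Set.range_subset_iff.mpr hfker)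
  let B := P ⧸ J₀
  haveI : Nontrivial B := Ideal.Quotient.nontrivial_iff.mpr fun h =>
    one_ne_zero (α := A) (by rw [← map_one (algebraMap P A)]; exact hJ₀ (h ▸ Submodule.mem_top))
  haveI : IsLocalRing B := IsLocalRing.of_surjective' _ Ideal.Quotient.mk_surjective
  letI algBA : Algebra B A := (Ideal.Quotient.lift J₀ (algebraMap P A) fun x hx => hJ₀ hx).toAlgebra
  haveI : IsScalarTower P B A := IsScalarTower.of_algebraMap_eq fun x => rfl
  haveI : IsScalarTower k B A := IsScalarTower.of_algebraMap_eq fun x => by
    change algebraMap k A x = algebraMap P A (algebraMap k P x)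
    exact IsScalarTower.algebraMap_apply k P A x
  have hsB : Function.Surjective (algebraMap B A) := fun a => by
    obtain ⟨x, rfl⟩ := hs a
    exact ⟨Ideal.Quotient.mk J₀ x, rfl⟩
  haveI : IsLocalHom (algebraMap B A) := IsLocalHom.of_surjective _ hsB
  -- the relations split over `B`
  let G := B ⊗[P] Ω[P⁄k]
  let T : G →ₗ[B] F := LinearMap.liftBaseChange B (TensorProduct.mk P A (Ω[P⁄k]) 1)
  have hT : ∀ i, T ((1 : B) ⊗ₜ[P] D k P (f i)) = (bM i : F) := fun i => by
    rw [← hfD i]
    exact (LinearMap.liftBaseChange_tmul _ _ _ _).trans (one_smul _ _)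
  have hψ : ∀ i, ∃ ψ : G →ₗ[B] B, (Algebra.linearMap B A) ∘ₗ ψ =
      ((bM.coord i ∘ₗ pr).restrictScalars B) ∘ₗ T := fun i =>
    Module.projective_lifting_property _ _ hsB
  choose ψ hψ using hψ
  let Mx : Matrix (Fin c) (Fin c) B := Matrix.of fun i j => ψ i ((1 : B) ⊗ₜ[P] D k P (f j))
  have hMx : (algebraMap B A).mapMatrix Mx = 1 := by
    ext i j
    change algebraMap B A (ψ i _) = _
    have h1 := LinearMap.congr_fun (hψ i) ((1 : B) ⊗ₜ[P] D k P (f j))
    simp only [LinearMap.comp_apply, Algebra.linearMap_apply, LinearMap.coe_restrictScalars] at h1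
    rw [h1, hT, hpr, Module.Basis.coord_apply, Module.Basis.repr_self, Finsupp.single_apply, Matrix.one_apply]
    exact if_congr eq_comm rfl rfl
  have hdet : IsUnit Mx.det := isUnit_of_map_unit (algebraMap B A) _ (by
    rw [RingHom.map_det, hMx, Matrix.det_one]; exact isUnit_one)
  have hfB : ∀ i, f i ∈ RingHom.ker (algebraMap P B) := fun i =>
    Ideal.Quotient.eq_zero_iff_mem.mpr (Ideal.subset_span ⟨i, rfl⟩)
  haveI hBfs : Algebra.FormallySmooth k B := by
    refine (Algebra.FormallySmooth.iff_split_injection (R := k) (P := P) (A := B) Ideal.Quotient.mk_surjective).mpr ?_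
    let cl : Fin c → (RingHom.ker (algebraMap P B)).Cotangent := fun i =>
      Ideal.toCotangent _ ⟨f i, hfB i⟩
    obtain ⟨g, hg⟩ : ∃ g : (Fin c → B) → (Fin c → P), ∀ v i, algebraMap P B (g v i) = v i := by
      exact ⟨fun v i => Function.surjInv Ideal.Quotient.mk_surjective (v i),
        fun v i => Function.surjInv_eq Ideal.Quotient.mk_surjective (v i)⟩
    have hkill : ∀ (x : P) (y : (RingHom.ker (algebraMap P B)).Cotangent), algebraMap P B x = 0 → x • y = 0 := by
      intro x y hx
      obtain ⟨z, rfl⟩ := Ideal.toCotangent_surjective _ y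
      rw [← map_smul, Ideal.toCotangent_eq_zero, pow_two]
      exact Ideal.mul_mem_mul hx z.2
    let assemble : (Fin c → B) →ₗ[P] (RingHom.ker (algebraMap P B)).Cotangent :=
      { toFun := fun v => ∑ i, g v i • cl i
        map_add' := fun v w => by
          rw [← Finset.sum_add_distrib, ← sub_eq_zero, ← Finset.sum_sub_distrib]
          refine Finset.sum_eq_zero fun i _ => ?_
          rw [← add_smul, ← sub_smul]
          exact hkill _ _ (by simp [hg])
        map_smul' := fun x v => by
          rw [RingHom.id_apply, Finset.smul_sum, ← sub_eq_zero, ← Finset.sum_sub_distrib]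
          refine Finset.sum_eq_zero fun i _ => ?_
          rw [smul_smul, ← sub_smul]
          exact hkill _ _ (by simp [hg, Algebra.smul_def]) }
    let Ψ : G →ₗ[B] (Fin c → B) := Mx⁻¹.mulVecLin ∘ₗ LinearMap.pi ψ
    refine ⟨assemble ∘ₗ Ψ.restrictScalars P, LinearMap.ext fun y => ?_⟩
    obtain ⟨⟨z, hz⟩, rfl⟩ := Ideal.toCotangent_surjective _ y
    have hzJ : z ∈ J₀ := Ideal.Quotient.eq_zero_iff_mem.mp hz
    obtain ⟨a, ha⟩ := (Submodule.mem_span_range_iff_exists_fun P).mp hzJ
    have hsum : Ideal.toCotangent (RingHom.ker (algebraMap P B)) ⟨z, hz⟩ = ∑ j, a j • cl j := by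
      rw [show (⟨z, hz⟩ : RingHom.ker (algebraMap P B)) = ∑ j, a j • ⟨f j, hfB j⟩ from
        Subtype.ext (by simp [← ha]), map_sum]
      exact Finset.sum_congr rfl fun i _ => map_smul _ _ _
    rw [LinearMap.id_apply, hsum, map_sum]
    refine Finset.sum_congr rfl fun j _ => ?_
    rw [map_smul]
    refine congrArg (a j • ·) ?_
    change assemble (Ψ (kerCotangentToTensor k P B (Ideal.toCotangent _ ⟨f j, hfB j⟩))) = cl j
    rw [kerCotangentToTensor_toCotangent]
    have hΨ : Ψ ((1 : B) ⊗ₜ[P] D k P (f j)) = Pi.single j 1 := by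
      change Mx⁻¹.mulVec (fun i => Mx i j) = _
      have : (fun i => Mx i j) = Mx.mulVec (Pi.single j 1) := by ext i; simp
      rw [this, Matrix.mulVec_mulVec, Matrix.nonsing_inv_mul _ hdet, Matrix.one_mulVec]
    rw [hΨ]
    change ∑ i, g (Pi.single j 1) i • cl i = cl j
    rw [← sub_eq_zero, show cl j = ∑ i, (if i = j then (1 : P) else 0) • cl i by simp, ← Finset.sum_sub_distrib]
    refine Finset.sum_eq_zero fun i _ => ?_
    rw [← sub_smul]
    exact hkill _ _ (by rw [map_sub, hg]; rcases eq_or_ne i j with rfl | h <;> simp_all)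
  haveI : Algebra.EssFiniteType P B := inferInstance
  haveI : Algebra.EssFiniteType k B := Algebra.EssFiniteType.comp k P B
  haveI : IsNoetherianRing B := inferInstance
  haveI : IsLocalHom (algebraMap k B) := ⟨fun x hx => isUnit_iff_ne_zero.mpr fun h => by simp [h] at hx⟩
  haveI : IsRegularLocalRing B := CohenLib.isRegularLocalRing_of_formallySmooth_flat k B
  haveI : IsDomain B := CommAlgDim.isDomain_of_isRegularLocalRing B
  -- the differentials of the kernel vanish
  let W := A ⊗[B] Ω[B⁄k]
  let T₂ : F →ₗ[A] W :=
    LinearMap.liftBaseChange A ((TensorProduct.mk B A (Ω[B⁄k]) 1).restrictScalars P ∘ₗ KaehlerDifferential.map k k P B)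
  have hT₂ : ∀ x : P, T₂ ((1 : A) ⊗ₜ[P] D k P x) = (1 : A) ⊗ₜ[B] D k B (algebraMap P B x) := fun x => by
    refine (LinearMap.liftBaseChange_tmul _ _ _ _).trans ((one_smul _ _).trans ?_)
    simp
  have hM : ∀ m : M, T₂ m = 0 := by
    have h : T₂ ∘ₗ M.subtype = 0 := bM.ext fun i => by
      change T₂ (bM i : F) = 0
      rw [← hfD i, hT₂, show algebraMap P B (f i) = 0 from hfB i, map_zero, TensorProduct.tmul_zero]
    exact fun m => LinearMap.congr_fun h m
  have hd0 : ∀ b : B, algebraMap B A b = 0 → (1 : A) ⊗ₜ[B] D k B b = 0 := fun b hb => by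
    obtain ⟨x, rfl⟩ := Ideal.Quotient.mk_surjective b
    have hx : (1 : A) ⊗ₜ[P] D k P x ∈ M := by
      rw [LinearMap.mem_ker]
      change π _ = 0
      rw [mapBaseChange_tmul, one_smul, map_D, show algebraMap P A x = 0 from hb, map_zero]
    exact (hT₂ x).symm.trans (hM ⟨_, hx⟩)
  -- generic smoothness kills the kernel
  let p' := p.comap (algebraMap B A)
  let B' := Localization.AtPrime p'
  let A' := Localization.AtPrime p
  letI algB'A' : Algebra B' A' := (Localization.localRingHom p' p (algebraMap B A) rfl).toAlgebra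
  haveI : IsScalarTower B B' A' := IsScalarTower.of_algebraMap_eq fun b => by
    rw [IsScalarTower.algebraMap_apply B A A']
    exact (Localization.localRingHom_to_map p' p (algebraMap B A) rfl b).symm
  haveI : IsScalarTower k B' A' := IsScalarTower.of_algebraMap_eq fun b => by
    rw [IsScalarTower.algebraMap_apply k B A', IsScalarTower.algebraMap_apply k B B',
      IsScalarTower.algebraMap_apply B B' A']
  have hsB' : Function.Surjective (algebraMap B' A') := RingHom.surjective_localRingHom_of_surjective _ hsB p
  haveI : Algebra.FormallySmooth k B' := inferInstance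
  obtain ⟨l, hl⟩ := (Algebra.FormallySmooth.iff_split_injection (R := k) (P := B') (A := A') hsB').mp inferInstance
  let T₃ : W →ₗ[A] A' ⊗[B'] Ω[B'⁄k] := LinearMap.liftBaseChange A
    ((TensorProduct.mk B' A' (Ω[B'⁄k]) 1).restrictScalars B ∘ₗ KaehlerDifferential.map k k B B')
  have hzero : ∀ y, kerCotangentToTensor k B' A' y = 0 := fun y => by
    obtain ⟨⟨x, hx⟩, rfl⟩ := Ideal.toCotangent_surjective _ y
    rw [kerCotangentToTensor_toCotangent]
    obtain ⟨b, s, rfl⟩ := IsLocalization.exists_mk'_eq p'.primeCompl x
    have hb : algebraMap B A' b = 0 := by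
      rw [IsScalarTower.algebraMap_apply B B' A', ← IsLocalization.mk'_spec B' b s, map_mul,
        show algebraMap B' A' (IsLocalization.mk' B' b s) = 0 from hx, zero_mul]
    rw [IsScalarTower.algebraMap_apply B A A', IsLocalization.map_eq_zero_iff p.primeCompl] at hb
    obtain ⟨t, ht⟩ := hb
    obtain ⟨t', ht'⟩ := hsB t
    have htb : algebraMap B A (t' * b) = 0 := by rw [map_mul, ht', ht]
    have hzero' : (1 : A') ⊗ₜ[B'] D k B' (algebraMap B B' (t' * b)) = 0 := by
      have := congrArg T₃ (hd0 _ htb)
      rw [map_zero] at this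
      rw [← this]
      refine Eq.symm ((LinearMap.liftBaseChange_tmul _ _ _ _).trans ((one_smul _ _).trans ?_))
      simp
    have hu : algebraMap B B' (t' * b) = algebraMap B B' (t' * s) * IsLocalization.mk' B' b s := by
      rw [map_mul, map_mul, mul_assoc, IsLocalization.mk'_spec' B' b s]
    rw [hu, Derivation.leibniz, TensorProduct.tmul_add, TensorProduct.tmul_smul, TensorProduct.tmul_smul,
      ← algebraMap_smul A' (IsLocalization.mk' B' b s) ((1 : A') ⊗ₜ[B'] D k B' (algebraMap B B' (t' * (s : B)))),
      show algebraMap B' A' (IsLocalization.mk' B' b s) = 0 from hx, zero_smul, add_zero] at hzero'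
    have hunit : IsUnit (algebraMap B B' (t' * s)) :=
      IsLocalization.map_units B' (⟨t' * s, p'.primeCompl.mul_mem (fun h => t.2 (by
        rw [← ht']; exact h)) s.2⟩ : p'.primeCompl)
    exact hunit.smul_eq_zero.mp hzero'
  have hker' : RingHom.ker (algebraMap B' A') = ⊥ := by
    haveI : Subsingleton (RingHom.ker (algebraMap B' A')).Cotangent := ⟨fun a b => by
      rw [← LinearMap.id_apply (R := B') a, ← LinearMap.id_apply (R := B') b, ← hl, LinearMap.comp_apply,
        LinearMap.comp_apply, hzero, hzero]⟩
    have hidem := (Ideal.cotangent_subsingleton_iff (RingHom.ker (algebraMap B' A'))).mp ‹_›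
    refine Submodule.eq_bot_of_le_smul_of_le_jacobson_bot (RingHom.ker (algebraMap B' A')) _
      (IsNoetherian.noetherian _) ?_ ?_
    · rw [smul_eq_mul, hidem.eq]
    · rw [IsLocalRing.jacobson_eq_maximalIdeal _ bot_ne_top]
      exact IsLocalRing.le_maximalIdeal (RingHom.ker_ne_top _)
  have hinj : Function.Injective (algebraMap B A) := (RingHom.injective_iff_ker_eq_bot _).mpr <| by
    rw [eq_bot_iff]
    intro b hb
    have h1 : algebraMap B B' b ∈ RingHom.ker (algebraMap B' A') := by
      rw [RingHom.mem_ker, ← IsScalarTower.algebraMap_apply B B' A', IsScalarTower.algebraMap_apply B A A',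
        RingHom.mem_ker.mp hb, map_zero]
    rw [hker', Ideal.mem_bot] at h1
    exact IsLocalization.injective B' (Ideal.primeCompl_le_nonZeroDivisors p') (h1.trans (map_zero _).symm)
  exact Algebra.FormallySmooth.of_equiv (AlgEquiv.ofBijective (IsScalarTower.toAlgHom k B A) ⟨hinj, hsB⟩)

variable (A : Type u) [CommRing A] [Algebra k A] [Algebra.FiniteType k A]

theorem smooth_of_projective [Module.Projective A (Ω[A⁄k])]
    (h : ∀ (p : Ideal A) [p.IsPrime], p ∈ minimalPrimes A → Algebra.IsSmoothAt k p) : Algebra.Smooth k A := by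
  haveI : Algebra.FinitePresentation k A := Algebra.FinitePresentation.of_finiteType.mp ‹_›
  haveI : Algebra.FormallySmooth k A := by
    refine (Algebra.smoothLocus_eq_univ_iff).mp (Set.eq_univ_of_forall fun ⟨q, hq⟩ => ?_)
    obtain ⟨N, π, hπ⟩ := Algebra.FiniteType.iff_quotient_mvPolynomial''.mp ‹Algebra.FiniteType k A›
    let Q := q.comap π.toRingHom
    let P := Localization.AtPrime Q
    let Aq := Localization.AtPrime q
    letI : Algebra P Aq := (Localization.localRingHom Q q π.toRingHom rfl).toAlgebra
    haveI : IsScalarTower k P Aq := IsScalarTower.of_algebraMap_eq fun x => by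
      rw [IsScalarTower.algebraMap_apply k (MvPolynomial (Fin N) k) P, IsScalarTower.algebraMap_apply k A Aq,
        ← π.commutes x]
      exact (Localization.localRingHom_to_map Q q π.toRingHom rfl _).symm
    haveI : Algebra.EssFiniteType k P := Algebra.EssFiniteType.comp k (MvPolynomial (Fin N) k) P
    haveI : Module.Finite A (Ω[A⁄k]) := inferInstance
    haveI : Module.Projective Aq (Ω[Aq⁄k]) :=
      Module.projective_of_isLocalizedModule q.primeCompl (KaehlerDifferential.map k k A Aq)
    haveI : Algebra.EssFiniteType k Aq := Algebra.EssFiniteType.comp k A Aq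
    haveI : Module.Finite Aq (Ω[Aq⁄k]) := inferInstance
    haveI : Module.Free Aq (Ω[Aq⁄k]) := Module.free_of_flat_of_isLocalRing
    obtain ⟨p, hp, hpq⟩ := Ideal.exists_minimalPrimes_le (I := (⊥ : Ideal A)) (J := q) bot_le
    haveI : p.IsPrime := hp.1.1
    let p'' : Ideal Aq := p.map (algebraMap A Aq)
    have hdisj : Disjoint (q.primeCompl : Set A) (p : Set A) :=
      Set.disjoint_left.mpr fun x hx hxp => hx (hpq hxp)
    haveI : p''.IsPrime := IsLocalization.isPrime_of_isPrime_disjoint q.primeCompl Aq p inferInstance hdisj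
    have hcomap : p''.comap (algebraMap A Aq) = p :=
      IsLocalization.comap_map_of_isPrime_disjoint q.primeCompl Aq inferInstance hdisj
    haveI : Algebra.FormallySmooth k (Localization.AtPrime p'') := by
      haveI : IsLocalization.AtPrime (Localization.AtPrime p'') p := by
        have key : ∀ (a : Ideal A) [a.IsPrime], a = p → IsLocalization.AtPrime (Localization.AtPrime p'') a →
            IsLocalization.AtPrime (Localization.AtPrime p'') p := fun a _ ha hl => by subst ha; exact hl
        exact key _ hcomap (IsLocalization.isLocalization_atPrime_localization_atPrime q.primeCompl p'')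
      haveI : Algebra.FormallySmooth k (Localization.AtPrime p) := h p hp
      exact Algebra.FormallySmooth.of_equiv
        ((IsLocalization.algEquiv p.primeCompl (Localization.AtPrime p) (Localization.AtPrime p'')).restrictScalars k)
    exact formallySmooth_of_generic k P Aq (RingHom.surjective_localRingHom_of_surjective _ hπ q) p''
  exact ⟨inferInstance, inferInstance⟩

end SmoothCritLib
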