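import Mathlib
import Groth.Agent.SmoothCritLib.Point
import Groth.Agent.EquidimLib.DimCriteria
import Groth.Agent.EquidimLib.OpenComponent
import Groth.Agent.S2561
import Groth.Agent.S3409
import Groth.Agent.S4934
import Groth.Prelude.Def_CAlg2

/-!
# Smoothness from universal openness or equidimensionality
-/

set_option autoImplicit false

universe u

open CategoryTheory Limits AlgebraicGeometry IsLocalRing TopologicalSpace Topology

namespace SmoothCritLib

open UOpenLib EquidimLib

variable {X Y : Scheme.{u}} [IsLocallyNoetherian Y] (f : X ⟶ Y) [LocallyOfFiniteType f]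

theorem fiberι_mem {y : Y} (a : ↥(f.fiber y)) : f.base ((f.fiberι y).base a) = y := by
  have h := Set.mem_range_self (f := (f.fiberι y).base) a
  rw [f.range_fiberι] at h
  exact h

theorem fiberι_specializes (x : X) {a : ↥(f.fiber (f.base x))} (h : f.asFiber x ∈ closure {a}) :
    (f.fiberι (f.base x)).base a ⤳ x := by
  have := (specializes_iff_mem_closure.mpr h).map (f.fiberι (f.base x)).continuous
  rwa [f.fiberι_asFiber] at this

/-- Universal openness at the maximal points of the fibre and smoothness of the fibre give smoothness. -/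
theorem mem_smoothLocus_of_univOpen (x : X) (hred : _root_.IsReduced (Y.presheaf.stalk (f.base x)))
    (hopen : ∀ z : X, f.base z = f.base x → z ⤳ x → IsFibreMax f z → EGA43.IsUnivOpenAt f z)
    [LocallyOfFinitePresentation (f.fiberToSpecResidueField (f.base x))]
    (hsm : f.asFiber x ∈ (f.fiberToSpecResidueField (f.base x)).smoothLocus) : x ∈ f.smoothLocus := by
  refine (DepthLib.mem_smoothLocus_iff f x).mpr ⟨?_, hsm⟩
  exact Groth.Agent.S2561.result f x
    (fun a ha hmax ↦ hopen _ (fiberι_mem f a) (fiberι_specializes f x ha) (max_of_closure_mem f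
      (FibDimLib.closure_mem_irreducibleComponents_of_max fun w hw ↦ hmax w hw.mem_closure)))
    (isGeomReducedAt_of_mem_smoothLocus (k := Y.residueField (f.base x)) _ _ hsm) hred

/-- Maximal points through a point with unibranch local ring are equal. -/
theorem eq_of_unibranch {Y : Scheme.{u}} (y : Y) (hy : CAlg2.IsGeomUnibranch (Y.presheaf.stalk y)) {η η' : Y}
    (hη : closure {η} ∈ irreducibleComponents (Y : Type u)) (hη' : closure {η'} ∈ irreducibleComponents (Y : Type u))
    (h : η ⤳ y) (h' : η' ⤳ y) : η = η' := by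
  let O := Y.presheaf.stalk y
  haveI hdom : IsDomain (O ⧸ nilradical O) := hy.1.1
  let p₀ : Spec O := ⟨nilradical O, Ideal.Quotient.isDomain_iff_prime _ |>.mp hdom⟩
  have key : ∀ η : Y, closure {η} ∈ irreducibleComponents (Y : Type u) → η ⤳ y → (Y.fromSpecStalk y).base p₀ = η := by
    intro η hη hηy
    obtain ⟨p, rfl⟩ : η ∈ Set.range (Y.fromSpecStalk y).base := by rw [Scheme.range_fromSpecStalk]; exact hηy
    refine FibDimLib.eq_of_specializes_of_closure_mem hη ?_
    exact ((PrimeSpectrum.le_iff_specializes p₀ p).mp (nilradical_le_prime p.asIdeal)).map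
      (Y.fromSpecStalk y).continuous
  rw [← key η hη h, ← key η' hη' h']

/-- An equidimensional morphism over a unibranch point is universally open at the maximal points of the fibre. -/
theorem isUnivOpenAt_of_equidim (x : X) (hgu : CAlg2.IsGeomUnibranch (Y.presheaf.stalk (f.base x)))
    (he : EGA43.IsEquidimAt f x) {z : X} (hz : f.base z = f.base x) (hzx : z ⤳ x) (hmax : IsFibreMax f z) :
    EGA43.IsUnivOpenAt f z := by
  haveI : IsLocallyNoetherian X := LocallyOfFiniteType.isLocallyNoetherian f
  obtain ⟨e, U, hU⟩ := (isEquidimAt_iff f x).mp he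
  have hzU : z ∈ U := hzx.mem_open U.isOpen hU.mem
  obtain ⟨ξ, hξ, hξz⟩ := DvrDomLib.exists_generic_specializes z
  have hξU : ξ ∈ U := hξz.mem_open U.isOpen hzU
  obtain ⟨hmaxξ, -⟩ := hU.max ξ hξU hξ
  have hgu' : CAlg2.IsGeomUnibranch (Y.presheaf.stalk (f.base z)) := hz.symm ▸ hgu
  refine ((Groth.Agent.S4934.result f z hmax hgu').out 0 1).mpr fun Y₀ hY₀ hzY₀ ↦ ?_
  obtain ⟨η₀, hη₀⟩ := QuasiSober.sober hY₀.1 (isClosed_of_mem_irreducibleComponents _ hY₀)
  obtain rfl : Y₀ = closure {η₀} := hη₀.def.symm
  have hη : η₀ = f.base ξ :=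
    eq_of_unibranch (f.base z) hgu' hY₀ hmaxξ (specializes_iff_mem_closure.mpr hzY₀) (hξz.map f.continuous)
  subst hη
  refine ⟨closure {ξ}, hξ, hξz.mem_closure,
    (closure_image_closure f.continuous).trans (congrArg closure (Set.image_singleton ..)), fun η hη ↦ ?_⟩
  obtain rfl : η = f.base ξ := (isGenericPoint_def.mpr hη).eq isGenericPoint_closure
  rw [EquidimLib.localDim_inter_of_max f hmax isClosed_closure hξz.mem_closure, hU.dim z hzU hmax,
    ← fibreClosureDim_eq_inter, hU.dim ξ hξU (isFibreMax_of_max f hξ)]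

/-- A smooth point has a unique component of its fibre through it. -/
theorem unique_fibre_component (x : X)
    [LocallyOfFinitePresentation (f.fiberToSpecResidueField (f.base x))]
    (hsm : f.asFiber x ∈ (f.fiberToSpecResidueField (f.base x)).smoothLocus)
    {Z Z' : Set ↥(f.fiber (f.base x))} (hZ : Z ∈ irreducibleComponents (↥(f.fiber (f.base x)) : Type u))
    (hZ' : Z' ∈ irreducibleComponents (↥(f.fiber (f.base x)) : Type u))
    (hx : f.asFiber x ∈ Z) (hx' : f.asFiber x ∈ Z') : Z = Z' := by
  let F := f.fiber (f.base x)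
  let z := f.asFiber x
  haveI hdom : IsDomain (F.presheaf.stalk z) := by
    have h := (Groth.Agent.S4989.result (f.fiberToSpecResidueField (f.base x)) z hsm).2.mpr ?_
    · exact h.1
    · obtain ⟨e, he, -⟩ := bijective_toStalk_field (Y.residueField (f.base x))
        ((f.fiberToSpecResidueField (f.base x)).base z)
      have hf : IsField ((Spec (Y.residueField (f.base x))).presheaf.stalk
          ((f.fiberToSpecResidueField (f.base x)).base z)) :=
        (RingEquiv.ofBijective e.hom he).symm.toMulEquiv.isField (Field.toIsField _)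
      letI := hf.toField
      exact ⟨inferInstance, inferInstance⟩
  let p₀ : Spec (F.presheaf.stalk z) := ⟨⊥, Ideal.isPrime_bot⟩
  have key : ∀ W ∈ irreducibleComponents (↥F : Type u), z ∈ W → closure {(F.fromSpecStalk z).base p₀} = W := by
    intro W hW hzW
    obtain ⟨η, hη⟩ := QuasiSober.sober hW.1 (isClosed_of_mem_irreducibleComponents _ hW)
    have hηz : η ⤳ z := hη.specializes hzW
    obtain ⟨p, hp⟩ : η ∈ Set.range (F.fromSpecStalk z).base := by rw [Scheme.range_fromSpecStalk]; exact hηz
    rw [← hη.def] at hW ⊢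
    have : (F.fromSpecStalk z).base p₀ = η := FibDimLib.eq_of_specializes_of_closure_mem hW
      (hp ▸ ((PrimeSpectrum.le_iff_specializes p₀ p).mp bot_le).map (F.fromSpecStalk z).continuous)
    rw [this]
  rw [← key Z hZ hx, ← key Z' hZ' hx']

/-- A smooth point is a point of equidimensionality. -/
theorem isEquidimAt_of_mem_smoothLocus (x : X) (h : x ∈ f.smoothLocus) : EGA43.IsEquidimAt f x := by
  haveI : LocallyOfFinitePresentation (f.fiberToSpecResidueField (f.base x)) :=
    MorphismProperty.pullback_snd _ _ inferInstance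
  obtain ⟨-, hsm⟩ := (DepthLib.mem_smoothLocus_iff f x).mp h
  refine Groth.Agent.S3409.result f x
    (fun a ha _ ↦ isUnivOpenAt_of_mem_smoothLocus f _
      ((fiberι_specializes f x ha).mem_open f.smoothLocus.isOpen h))
    (isGeomReducedAt_of_mem_smoothLocus (k := Y.residueField (f.base x)) _ _ hsm) ?_
  obtain ⟨z, hz, hzx, hzmax, -⟩ := exists_max_fibreDimAt f x
  obtain ⟨a, rfl⟩ : z ∈ Set.range (f.fiberι (f.base x)).base := by rw [f.range_fiberι]; exact hz
  obtain ⟨e, he⟩ := exists_fibreClosureDim_eq_nat f ((f.fiberι (f.base x)).base a)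
  have hamem : closure {a} ∈ irreducibleComponents (↥(f.fiber (f.base x)) : Type u) :=
    FibDimLib.closure_mem_irreducibleComponents_of_max fun w hw ↦ (f.fiberι (f.base x)).isEmbedding.injective
      (hzmax _ ((fiberι_mem f w).trans (fiberι_mem f a).symm) (hw.map (f.fiberι (f.base x)).continuous).mem_closure)
  have hax : f.asFiber x ∈ closure {a} := by
    rw [← specializes_iff_mem_closure, ← (f.fiberι (f.base x)).isEmbedding.isInducing.specializes_iff,
      f.fiberι_asFiber]
    exact hzx
  refine ⟨e, fun Z hZ hxZ ↦ ?_⟩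
  rw [unique_fibre_component f x hsm hZ hamem hxZ hax, ← fibreClosureDim_fiberι]
  exact he

end SmoothCritLib
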